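import Mathlib
import Groth.Agent.CAlgFS.FlatFibre

/-!
Deformations over a local Artinian `k`-algebra with residue field `k`: formal smoothness from the closed fibre and
the annihilator of a socle element in a flat algebra.
-/

namespace Groth.Agent.TruncDeform

universe u

variable {k : Type u} [Field k] {A : Type u} [CommRing A] [Algebra k A]
  {B : Type u} [CommRing B] [Algebra A B] [Algebra k B] [IsScalarTower k A B] [Module.Flat A B]

theorem formallySmooth_of_fibre (m : Ideal A) (hm : IsNilpotent m)
    (hres : ∀ a : A, ∃ c : k, a - algebraMap k A c ∈ m)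
    (hsm : Algebra.FormallySmooth k (B ⧸ m.map (algebraMap A B))) :
    Algebra.FormallySmooth A B := by
  refine CAlgFS.formallySmooth_of_flat_of_fibre m hm fun T _ χ hχ K hK v hv => ?_
  let : Algebra k T := (χ.comp (algebraMap k A)).toAlgebra
  have hv' : ∀ a, v (algebraMap A B a) = Ideal.Quotient.mk K (χ a) := fun a => RingHom.congr_fun hv a
  let v' : B ⧸ m.map (algebraMap A B) →ₐ[k] T ⧸ K :=
    { toRingHom := Ideal.Quotient.lift _ v fun b hb => by
        have h : m.map (algebraMap A B) ≤ RingHom.ker v := Ideal.map_le_iff_le_comap.2 fun a ha => by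
          rw [Ideal.mem_comap, RingHom.mem_ker, hv', RingHom.mem_ker.1 (hχ ha), map_zero]
        exact h hb
      commutes' := fun c => by
        change v (algebraMap k B c) = _
        rw [IsScalarTower.algebraMap_apply k A B, hv']
        rfl }
  let w : B →+* T := (Algebra.FormallySmooth.lift K ⟨2, hK⟩ v').toRingHom.comp (Ideal.Quotient.mk _)
  refine ⟨w, RingHom.ext fun b => Algebra.FormallySmooth.mk_lift K ⟨2, hK⟩ v' (Ideal.Quotient.mk _ b),
    RingHom.ext fun a => ?_⟩
  obtain ⟨c, hc⟩ := hres a
  have h1 : w (algebraMap A B (a - algebraMap k A c)) = 0 := by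
    show Algebra.FormallySmooth.lift K ⟨2, hK⟩ v' (Ideal.Quotient.mk _ (algebraMap A B _)) = 0
    rw [Ideal.Quotient.eq_zero_iff_mem.2 (Ideal.mem_map_of_mem _ hc), map_zero]
  have h2 : w (algebraMap A B (algebraMap k A c)) = χ (algebraMap k A c) := by
    rw [← IsScalarTower.algebraMap_apply k A B]
    exact (Algebra.FormallySmooth.lift K ⟨2, hK⟩ v').commutes c
  have h3 : χ (a - algebraMap k A c) = 0 := hχ hc
  rw [map_sub, map_sub, h2, sub_eq_zero] at h1
  rw [map_sub, sub_eq_zero] at h3
  exact h1.trans h3.symm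

omit [IsScalarTower k A B] [Algebra k B] [Algebra k A] [Field k] in
theorem mem_of_mul_eq_zero {t : A} {J : Ideal A} (hJ : ∀ a, t * a = 0 → a ∈ J) {c : B}
    (hc : algebraMap A B t * c = 0) : c ∈ J.map (algebraMap A B) := by
  obtain ⟨l, a, y, hy, ha⟩ := Module.Flat.isTrivialRelation_of_sum_smul_eq_zero (R := A) (M := B) (ι := Fin 1)
    (f := fun _ => t) (x := fun _ => c) (by simpa [Algebra.smul_def] using hc)
  rw [show c = _ from hy 0]
  refine Ideal.sum_mem _ fun j _ => ?_
  rw [Algebra.smul_def]
  refine Ideal.mul_mem_right _ _ (Ideal.mem_map_of_mem _ (hJ _ ?_))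
  simpa using ha j

end Groth.Agent.TruncDeform
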