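import Mathlib

/-!
Automorphisms of `A[ε]` over `k[ε]` which are the identity modulo `ε` are translations by derivations; derivations
with prescribed values at finitely many rational points of a smooth algebra.
-/

open TrivSqZeroExt

namespace Groth.Agent.TruncDeform

universe u v

variable {k : Type u} [Field k] {A : Type u} [CommRing A] [Algebra k A]

/-- The endomorphism `a + bε ↦ a + (D a + b)ε`. -/
noncomputable def dualEnd (D : Derivation k A A) : DualNumber A →ₐ[k] DualNumber A :=
  AlgHom.ofLinearMap
    { toFun := fun x => inl x.fst + inr (D x.fst + x.snd)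
      map_add' := fun x y => by ext <;> simp [add_add_add_comm]
      map_smul' := fun c x => by ext <;> simp [smul_add] }
    (by ext <;> simp)
    (fun x y => by
      ext
      · simp
      · simp [Derivation.leibniz]
        ring)

theorem dualEnd_apply (D : Derivation k A A) (x : DualNumber A) :
    dualEnd D x = inl x.fst + inr (D x.fst + x.snd) := rfl

/-- `dualEnd D` as an automorphism, with inverse `dualEnd (-D)`. -/
noncomputable def dualAut (D : Derivation k A A) : DualNumber A ≃ₐ[k] DualNumber A :=
  AlgEquiv.ofAlgHom (dualEnd D) (dualEnd (-D))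
    (AlgHom.ext fun x => by ext <;> simp [dualEnd_apply])
    (AlgHom.ext fun x => by ext <;> simp [dualEnd_apply])

theorem dualAut_eps (D : Derivation k A A) : dualAut D DualNumber.eps = DualNumber.eps := by
  show dualEnd D _ = _
  ext <;> simp [dualEnd_apply]

@[simp] theorem fst_dualAut (D : Derivation k A A) (x : DualNumber A) : (dualAut D x).fst = x.fst := by
  show (dualEnd D x).fst = _
  simp [dualEnd_apply]

@[simp] theorem snd_dualAut (D : Derivation k A A) (x : DualNumber A) : (dualAut D x).snd = D x.fst + x.snd := by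
  show (dualEnd D x).snd = _
  simp [dualEnd_apply]

theorem exists_separating {ι : Type v} [Finite ι] (q : ι → (A →ₐ[k] k)) (hq : Function.Injective q) (i : ι) :
    ∃ e : A, q i e = 1 ∧ ∀ j, j ≠ i → q j e = 0 := by
  classical
  have := Fintype.ofFinite ι
  have h : ∀ j, j ≠ i → ∃ a : A, q i a = 1 ∧ q j a = 0 := fun j hj => by
    obtain ⟨a, ha⟩ := DFunLike.ne_iff.1 (hq.ne hj)
    refine ⟨(q i a - q j a)⁻¹ • (a - algebraMap k A (q j a)), ?_, by simp⟩
    simp [inv_mul_cancel₀ (sub_ne_zero.2 (Ne.symm ha))]
  choose a ha0 ha1 using h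
  refine ⟨∏ j ∈ (Finset.univ.erase i).attach, a j.1 (Finset.ne_of_mem_erase j.2), ?_, fun j hj => ?_⟩
  · rw [map_prod]
    exact Finset.prod_eq_one fun j _ => ha0 _ _
  · rw [map_prod]
    exact Finset.prod_eq_zero (Finset.mem_attach _ ⟨j, Finset.mem_erase.2 ⟨hj, Finset.mem_univ _⟩⟩) (ha1 _ _)

theorem exists_derivation_at_points [Algebra.FormallySmooth k A] {ι : Type v} [Finite ι] (q : ι → (A →ₐ[k] k))
    (hq : Function.Injective q) (d : ι → A → k) (hadd : ∀ i a b, d i (a + b) = d i a + d i b)
    (hsmul : ∀ i (c : k) a, d i (c • a) = c * d i a)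
    (hmul : ∀ i a b, d i (a * b) = q i a * d i b + q i b * d i a) :
    ∃ D : Derivation k A A, ∀ i a, q i (D a) = d i a := by
  classical
  have := Fintype.ofFinite ι
  let φ : A →ₐ[k] (ι → k) := Pi.algHom k (fun _ => k) q
  let : Algebra A (ι → k) := φ.toRingHom.toAlgebra
  have : IsScalarTower k A (ι → k) := IsScalarTower.of_algebraMap_eq fun c => (φ.commutes c).symm
  have hsm : ∀ (a : A) (f : ι → k) i, (a • f) i = q i a * f i := fun a f i => rfl
  let l : A →ₗ[k] (ι → k) :=
    { toFun := fun a i => d i a
      map_add' := fun a b => funext fun i => hadd i a b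
      map_smul' := fun c a => funext fun i => hsmul i c a }
  let δ : Derivation k A (ι → k) := Derivation.mk' l fun a b => funext fun i => by
    show d i (a * b) = (a • l b) i + (b • l a) i
    rw [hsm, hsm]
    exact hmul i a b
  let π : A →ₗ[A] (ι → k) := Algebra.linearMap A (ι → k)
  choose e he0 he1 using exists_separating q hq
  have hπ : Function.Surjective π := fun f => ⟨∑ i, f i • e i, funext fun j => by
    show q j (∑ i, f i • e i) = f j
    rw [map_sum, Finset.sum_eq_single j (fun i _ hij => by simp [he1 i j hij.symm]) (by simp)]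
    simp [he0]⟩
  obtain ⟨L, hL⟩ := Module.projective_lifting_property π δ.liftKaehlerDifferential hπ
  refine ⟨L.compDer (KaehlerDifferential.D k A), fun i a => ?_⟩
  have h := congrFun (LinearMap.congr_fun hL (KaehlerDifferential.D k A a)) i
  rw [Derivation.liftKaehlerDifferential_comp_D] at h
  exact h

end Groth.Agent.TruncDeform
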