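import Mathlib
import Groth.Agent.TruncDeform.DualAut

/-!
A flat deformation over `k[ε]` of a formally smooth algebra is trivial, compatibly with finitely many sections.
-/

open TrivSqZeroExt CategoryTheory

namespace Groth.Agent.TruncDeform

universe u v

variable {k : Type u} [Field k] {A B : Type u} [CommRing A] [CommRing B] [Algebra k A] [Algebra.FormallySmooth k A]
  [Algebra (DualNumber k) B] [Module.Flat (DualNumber k) B]

theorem exists_trivialisation (π : B →+* A) (hπ : Function.Surjective π)
    (hπc : ∀ r : DualNumber k, π (algebraMap (DualNumber k) B r) = algebraMap k A r.fst)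
    (hker : ∀ b, π b = 0 → ∃ c, b = algebraMap (DualNumber k) B DualNumber.eps * c)
    {ι : Type v} [Finite ι] (q : ι → (A →ₐ[k] k)) (hq : Function.Injective q)
    (e : ι → (B →ₐ[DualNumber k] DualNumber k)) (he : ∀ j b, q j (π b) = (e j b).fst) :
    ∃ s : A →+* B, (∀ a, π (s a) = a) ∧ (∀ j a, e j (s a) = inl (q j a)) ∧
      IsPushout (CommRingCat.ofHom (algebraMap k A)) (CommRingCat.ofHom (algebraMap k (DualNumber k)))
        (CommRingCat.ofHom s) (CommRingCat.ofHom (algebraMap (DualNumber k) B)) := by
  classical
  let : Algebra k B := ((algebraMap (DualNumber k) B).comp (algebraMap k (DualNumber k))).toAlgebra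
  have : IsScalarTower k (DualNumber k) B := ⟨fun c r b => by
    rw [Algebra.smul_def, Algebra.smul_def r, show c • r = algebraMap k (DualNumber k) c * r by
      ext <;> simp [TrivSqZeroExt.algebraMap_eq_inl'], map_mul, mul_assoc]
    exact (Algebra.smul_def c _).symm⟩
  let π' : B →ₐ[k] A :=
    { toRingHom := π
      commutes' := fun c => (hπc _).trans (by simp [TrivSqZeroExt.algebraMap_eq_inl']) }
  let T := algebraMap (DualNumber k) B DualNumber.eps
  have hT2 : T * T = 0 := by rw [← map_mul, DualNumber.eps_mul_eps, map_zero]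
  have hTk : π T = 0 := by rw [hπc]; simp [DualNumber.fst_eps]
  have hnil : IsNilpotent (RingHom.ker π') := ⟨2, by
    refine eq_bot_iff.2 ?_
    rw [pow_two, Ideal.mul_le]
    intro a ha b hb
    obtain ⟨c, rfl⟩ := hker a ha
    obtain ⟨d, rfl⟩ := hker b hb
    exact Ideal.mem_bot.2 (by linear_combination c * d * hT2)⟩
  let s₀ : A →ₐ[k] B := Algebra.FormallySmooth.liftOfSurjective (AlgHom.id k A) π' hπ hnil
  have hs₀ : ∀ a, π (s₀ a) = a := fun a =>
    Algebra.FormallySmooth.liftOfSurjective_apply (AlgHom.id k A) π' hπ hnil a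
  let d : ι → A → k := fun j a => (e j (s₀ a)).snd
  have hfst : ∀ j a, (e j (s₀ a)).fst = q j a := fun j a => by rw [← he, hs₀]
  obtain ⟨D, hD⟩ := exists_derivation_at_points q hq (fun j a => -d j a)
    (fun j a b => by simp [d, add_comm])
    (fun j c a => by
      simp only [d]
      rw [map_smul, ← algebraMap_smul (DualNumber k) c (s₀ a), map_smul, TrivSqZeroExt.algebraMap_eq_inl',
        smul_eq_mul, TrivSqZeroExt.snd_mul]
      simp)
    (fun j a b => by simp [d, hfst]; ring)
  let sfun : A → B := fun a => s₀ a + T * s₀ (D a)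
  let s : A →ₐ[k] B :=
    { toFun := sfun
      map_one' := by simp [sfun]
      map_mul' := fun a b => by
        simp only [sfun, map_mul, Derivation.leibniz, smul_eq_mul, map_add]
        linear_combination -(s₀ (D a) * s₀ (D b)) * hT2
      map_zero' := by simp [sfun]
      map_add' := fun a b => by simp [sfun]; ring
      commutes' := fun c => by simp [sfun] }
  have hs : ∀ a, π (s a) = a := fun a => by
    show π (s₀ a + T * s₀ (D a)) = a
    rw [map_add, map_mul, hTk, zero_mul, add_zero, hs₀]
  refine ⟨s.toRingHom, hs, fun j a => ?_, ?_⟩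
  · show e j (s₀ a + T * s₀ (D a)) = _
    rw [map_add, map_mul, AlgHom.commutes]
    refine TrivSqZeroExt.ext ?_ ?_
    · simp [DualNumber.fst_eps, hfst]
    · simp only [DualNumber.fst_eps, DualNumber.snd_eps, Algebra.algebraMap_self, RingHom.id_apply, fst_add, snd_add, fst_mul,
        TrivSqZeroExt.snd_mul, fst_inr, snd_inr, MulOpposite.smul_eq_mul_unop, MulOpposite.unop_op, smul_eq_mul,
        zero_mul, one_mul, zero_add, snd_inl, hfst, hD]
      exact add_neg_cancel _
  let : Algebra A B := s.toRingHom.toAlgebra
  have : IsScalarTower k A B := IsScalarTower.of_algebraMap_eq fun c => (s.commutes c).symm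
  let L : TensorProduct k A (DualNumber k) →ₐ[A] B :=
    Algebra.TensorProduct.lift (Algebra.ofId A B) (IsScalarTower.toAlgHom k (DualNumber k) B) fun _ _ => Commute.all _ _
  have hL : ∀ a r, L (a ⊗ₜ r) = s a * algebraMap (DualNumber k) B r := fun a r => by simp [L]; rfl
  have hdec : ∀ z : TensorProduct k A (DualNumber k), ∃ a b, z = a ⊗ₜ (1 : DualNumber k) + b ⊗ₜ DualNumber.eps := by
    intro z
    induction z using TensorProduct.induction_on with
    | zero => exact ⟨0, 0, by simp⟩
    | tmul a r =>
      refine ⟨r.fst • a, r.snd • a, ?_⟩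
      rw [TensorProduct.smul_tmul, TensorProduct.smul_tmul, ← TensorProduct.tmul_add]
      congr 1
      ext <;> simp only [DualNumber.fst_eps, DualNumber.snd_eps, fst_add, snd_add, fst_smul, snd_smul, fst_one, snd_one, fst_inr, snd_inr,
        smul_eq_mul, mul_one, mul_zero, add_zero, zero_add]
    | add x y hx hy =>
      obtain ⟨a, b, rfl⟩ := hx
      obtain ⟨a', b', rfl⟩ := hy
      exact ⟨a + a', b + b', by simp only [TensorProduct.add_tmul]; abel⟩
  have hLab : ∀ a b, L (a ⊗ₜ (1 : DualNumber k) + b ⊗ₜ DualNumber.eps) = s a + T * s b := fun a b => by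
    rw [map_add, hL, hL, map_one, mul_one, mul_comm (s b)]
  have hbij : Function.Bijective L := by
    constructor
    · refine (injective_iff_map_eq_zero L).2 fun z hz => ?_
      obtain ⟨a, b, rfl⟩ := hdec z
      rw [hLab] at hz
      have ha : a = 0 := by simpa [hs, hTk] using congrArg π hz
      subst ha
      rw [map_zero, zero_add] at hz
      obtain ⟨l, c, y, hy, hc⟩ := Module.Flat.isTrivialRelation_of_sum_smul_eq_zero (R := DualNumber k) (M := B)
        (ι := Fin 1) (f := fun _ => DualNumber.eps) (x := fun _ => s b) (by simpa [Algebra.smul_def] using hz)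
      have h := congrArg π (show s b = _ from hy 0)
      rw [hs, map_sum] at h
      have hb : b = 0 := by
        refine h.trans (Finset.sum_eq_zero fun i _ => ?_)
        have h0 : DualNumber.eps * c 0 i = 0 := by simpa using hc i
        have h1 : (c 0 i).fst = 0 := by
          have h2 := congrArg TrivSqZeroExt.snd h0
          simpa only [DualNumber.fst_eps, DualNumber.snd_eps, TrivSqZeroExt.snd_mul, fst_inr, snd_inr, MulOpposite.smul_eq_mul_unop,
            MulOpposite.unop_op, smul_eq_mul, zero_mul, one_mul, zero_add, snd_zero] using h2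
        rw [Algebra.smul_def, map_mul, hπc, h1, map_zero, zero_mul]
      subst hb
      simp
    · intro y
      obtain ⟨c, hc⟩ := hker (y - s (π y)) (by rw [map_sub, hs, sub_self])
      obtain ⟨c', hc'⟩ := hker (c - s (π c)) (by rw [map_sub, hs, sub_self])
      exact ⟨_, (hLab (π y) (π c)).trans (by linear_combination -hc - T * hc' - c' * hT2)⟩
  have : Algebra.IsPushout k A (DualNumber k) B :=
    ⟨IsBaseChange.of_equiv (AlgEquiv.ofBijective L hbij).toLinearEquiv fun r => by
      show L (1 ⊗ₜ r) = algebraMap (DualNumber k) B r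
      rw [hL, map_one, one_mul]⟩
  exact CommRingCat.isPushout_of_isPushout k A (DualNumber k) B

end Groth.Agent.TruncDeform
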