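import Mathlib
import Groth.Agent.TruncDeform.Basic

/-!
Flat algebras with smooth special fibre over `k[X]/(X^(n+1))`: the derivation `∂/∂t` modulo `t^n` and the
structure of the differentials modulo `t^n`.
-/

open Polynomial TensorProduct

namespace Groth.Agent.TruncDeform

universe u

variable {k : Type u} [Field k] {n : ℕ} {D : Type u} [CommRing D] [Algebra k D] {τ : D}
  (e : (k[X] ⧸ Ideal.span {(X : k[X]) ^ (n + 1)}) ≃ₐ[k] D)
  (he : e (Ideal.Quotient.mk (Ideal.span {(X : k[X]) ^ (n + 1)}) X) = τ)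

include he in
theorem e_mk (p : k[X]) : e (Ideal.Quotient.mk (Ideal.span {(X : k[X]) ^ (n + 1)}) p) = aeval τ p := by
  have h : e.toAlgHom.comp (Ideal.Quotient.mkₐ k _) = aeval τ := Polynomial.algHom_ext (by simp [he])
  exact AlgHom.congr_fun h p

include he in
theorem exists_aeval (a : D) : ∃ p : k[X], aeval τ p = a := by
  obtain ⟨p, hp⟩ := Ideal.Quotient.mk_surjective (e.symm a)
  exact ⟨p, by rw [← e_mk e he, hp, AlgEquiv.apply_symm_apply]⟩

include he in
theorem tau_pow : τ ^ (n + 1) = 0 := by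
  simpa [Ideal.Quotient.eq_zero_iff_mem.2 (Ideal.mem_span_singleton_self _)] using
    (e_mk e he ((X : k[X]) ^ (n + 1))).symm

include he in
theorem exists_residue (a : D) : ∃ c : k, a - algebraMap k D c ∈ Ideal.span {τ} := by
  obtain ⟨p, rfl⟩ := exists_aeval e he a
  refine ⟨p.coeff 0, Ideal.mem_span_singleton'.2 ⟨aeval τ p.divX, ?_⟩⟩
  conv_rhs => rw [← divX_mul_X_add p]
  simp

include he in
theorem ann_tau_pow (a : D) (ha : τ ^ n * a = 0) : a ∈ Ideal.span {τ} := by
  obtain ⟨p, rfl⟩ := exists_aeval e he a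
  have h : Ideal.Quotient.mk (Ideal.span {(X : k[X]) ^ (n + 1)}) (X ^ n * p) = 0 :=
    e.injective (by rw [e_mk e he, map_mul, map_pow, aeval_X, ha, map_zero])
  obtain ⟨q, hq⟩ := Ideal.mem_span_singleton'.1 (Ideal.Quotient.eq_zero_iff_mem.1 h)
  have hp : p = q * X := mul_left_cancel₀ (pow_ne_zero n (X_ne_zero (R := k))) (by rw [← hq]; ring)
  exact Ideal.mem_span_singleton'.2 ⟨aeval τ q, by simp [hp]⟩

variable {B : Type u} [CommRing B] [Algebra k B] [Algebra D B] [IsScalarTower k D B]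

include he in
theorem exists_smul_D_of_map_eq_zero (η : Ω[B⁄k]) (hη : KaehlerDifferential.map k D B B η = 0) :
    ∃ b : B, η = b • KaehlerDifferential.D k B (algebraMap D B τ) := by
  obtain ⟨z, rfl⟩ := (KaehlerDifferential.exact_mapBaseChange_map k D B η).1 hη
  induction z using TensorProduct.induction_on with
  | zero => exact ⟨0, by simp⟩
  | tmul b ω =>
    have hω : ∃ a : D, ω = a • KaehlerDifferential.D k D τ := by
      have h : ω ∈ Submodule.span D (Set.range (KaehlerDifferential.D k D)) := by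
        rw [KaehlerDifferential.span_range_derivation]
        trivial
      refine Submodule.span_induction ?_ ⟨0, (zero_smul _ _).symm⟩ ?_ ?_ h
      · rintro _ ⟨a, rfl⟩
        obtain ⟨p, rfl⟩ := exists_aeval e he a
        exact ⟨aeval τ p.derivative, Derivation.map_aeval _ p τ⟩
      · rintro x y - - ⟨a, rfl⟩ ⟨a', rfl⟩
        exact ⟨a + a', (add_smul _ _ _).symm⟩
      · rintro r x - ⟨a, rfl⟩
        exact ⟨r * a, (mul_smul _ _ _).symm⟩
    obtain ⟨a, rfl⟩ := hω
    refine ⟨a • b, ?_⟩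
    rw [TensorProduct.tmul_smul, TensorProduct.smul_tmul', KaehlerDifferential.mapBaseChange_tmul,
      KaehlerDifferential.map_D]
  | add x y hx hy =>
    have hzero : ∀ z, KaehlerDifferential.map k D B B (KaehlerDifferential.mapBaseChange k D B z) = 0 := fun z =>
      (KaehlerDifferential.exact_mapBaseChange_map k D B).apply_apply_eq_zero z
    obtain ⟨a, ha⟩ := hx (hzero x)
    obtain ⟨a', ha'⟩ := hy (hzero y)
    exact ⟨a + a', by rw [map_add, ha, ha', add_smul]⟩

variable {t : B} (ht : t = algebraMap D B τ) [Module.Flat D B]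
  (hsm : Algebra.FormallySmooth k (B ⧸ Ideal.span {t}))

include he ht in
theorem t_pow : t ^ (n + 1) = 0 := by rw [ht, ← map_pow, tau_pow e he, map_zero]

include he ht in
theorem mem_span_of_pow_mul {x : B} (hx : t ^ n * x = 0) : x ∈ Ideal.span {t} := by
  have h := mem_of_mul_eq_zero (B := B) (ann_tau_pow e he) (by rwa [map_pow, ← ht])
  rwa [Ideal.map_span, Set.image_singleton, ← ht] at h

include he ht in
theorem pow_pred_mul_mem (hn : 1 ≤ n) {g : B} (hg : t ^ (n - 1) * g ∈ Ideal.span {t ^ n}) : t ^ n * g = 0 := by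
  obtain ⟨c, hc⟩ := Ideal.mem_span_singleton'.1 hg
  calc t ^ n * g = t * (t ^ (n - 1) * g) := by rw [← mul_assoc, ← pow_succ', Nat.sub_add_cancel hn]
    _ = c * t ^ (n + 1) := by rw [← hc]; ring
    _ = 0 := by rw [t_pow e he ht, mul_zero]

include he ht in
theorem pow_smul_D [CharZero k] : t ^ n • KaehlerDifferential.D k B t = 0 := by
  have h := congrArg (KaehlerDifferential.D k B) (t_pow e he ht)
  rw [Derivation.map_zero, Derivation.leibniz_pow, Nat.add_sub_cancel, ← Nat.cast_smul_eq_nsmul k] at h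
  exact (smul_eq_zero.1 h).resolve_left (Nat.cast_ne_zero.2 n.succ_ne_zero)

include he ht hsm in
theorem formallySmooth : Algebra.FormallySmooth D B := by
  refine formallySmooth_of_fibre (k := k) (Ideal.span {τ}) ⟨n + 1, ?_⟩ (exists_residue e he) ?_
  · rw [Ideal.span_singleton_pow, tau_pow e he]
    exact Ideal.span_singleton_eq_bot.2 rfl
  · rw [Ideal.map_span, Set.image_singleton, ← ht]
    exact hsm

include he ht hsm in
theorem exists_derivation (hn : 1 ≤ n) :
    ∃ δ : Derivation k B (B ⧸ Ideal.span {t ^ n}), δ t = 1 := by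
  let Bn := B ⧸ Ideal.span {t ^ n}
  let q : B →+* Bn := Ideal.Quotient.mk _
  let x : TrivSqZeroExt Bn Bn := TrivSqZeroExt.inl (q t) + TrivSqZeroExt.inr 1
  have hqn : q t ^ n = 0 := by
    rw [← map_pow]
    exact Ideal.Quotient.eq_zero_iff_mem.2 (Ideal.mem_span_singleton_self _)
  have hx : x ^ (n + 1) = 0 := by
    ext
    · simp [x, TrivSqZeroExt.fst_pow, pow_succ, hqn]
    · rw [TrivSqZeroExt.snd_pow]
      simp [x, hqn]
  let φ : D →ₐ[k] TrivSqZeroExt Bn Bn :=
    (Ideal.Quotient.liftₐ _ (aeval x) fun p hp => by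
      obtain ⟨c, rfl⟩ := Ideal.mem_span_singleton'.1 hp
      simp [hx]).comp e.symm.toAlgHom
  have hφ : ∀ p : k[X], φ (aeval τ p) = aeval x p := fun p => by
    rw [← e_mk e he]
    simp only [φ, AlgHom.comp_apply]
    erw [AlgEquiv.symm_apply_apply]
    rfl
  let : Algebra D (TrivSqZeroExt Bn Bn) := φ.toRingHom.toAlgebra
  have hfst : ∀ a, (algebraMap D (TrivSqZeroExt Bn Bn) a).fst = algebraMap D Bn a := fun a => by
    obtain ⟨p, rfl⟩ := exists_aeval e he a
    show TrivSqZeroExt.fst (φ _) = _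
    rw [hφ, show algebraMap D Bn (aeval τ p) = aeval (q t) p by
      rw [IsScalarTower.algebraMap_apply D B Bn, ← aeval_algebraMap_apply, ← ht,
        ← aeval_algebraMap_apply]; rfl]
    refine (Polynomial.aeval_algHom_apply (TrivSqZeroExt.fstHom k Bn Bn) x p).symm.trans ?_
    simp [x]
  let g : TrivSqZeroExt Bn Bn →ₐ[D] Bn :=
    { toRingHom := (TrivSqZeroExt.fstHom k Bn Bn).toRingHom
      commutes' := hfst }
  have hg : Function.Surjective g := fun y => ⟨TrivSqZeroExt.inl y, rfl⟩
  have hker : IsNilpotent (RingHom.ker g) := ⟨2, by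
    refine eq_bot_iff.2 ?_
    rw [Submodule.pow_succ, Submodule.pow_one, Ideal.mul_le]
    intro a ha b hb
    have ha' : a.fst = 0 := ha
    have hb' : b.fst = 0 := hb
    exact Ideal.mem_bot.2 (TrivSqZeroExt.ext (by simp [ha']) (by simp [ha', hb']))⟩
  have := formallySmooth e he ht hsm
  let w : B →ₐ[D] TrivSqZeroExt Bn Bn :=
    Algebra.FormallySmooth.liftOfSurjective (Ideal.Quotient.mkₐ D _) g hg hker
  have hw : ∀ b, (w b).fst = q b :=
    fun b => Algebra.FormallySmooth.liftOfSurjective_apply (Ideal.Quotient.mkₐ D _) g hg hker b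
  have hwk : ∀ c : k, (w (algebraMap k B c)).snd = 0 := fun c => by
    rw [IsScalarTower.algebraMap_apply k D B, w.commutes]
    show (φ (algebraMap k D c)).snd = 0
    rw [φ.commutes, IsScalarTower.algebraMap_apply k Bn (TrivSqZeroExt Bn Bn)]
    rfl
  let l : B →ₗ[k] Bn :=
    { toFun := fun b => (w b).snd
      map_add' := fun a b => by simp
      map_smul' := fun c b => by
        rw [Algebra.smul_def, map_mul, TrivSqZeroExt.snd_mul, hw, hwk]
        rw [smul_zero, add_zero, RingHom.id_apply, smul_eq_mul, Algebra.smul_def]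
        rfl }
  refine ⟨Derivation.mk' l fun a b => ?_, ?_⟩
  · show (w (a * b)).snd = a • (w b).snd + b • (w a).snd
    rw [map_mul, TrivSqZeroExt.snd_mul, hw, hw]
    simp [q, Bn, Algebra.smul_def, mul_comm]
  · show (w t).snd = 1
    rw [show w t = w (algebraMap D B τ) from congrArg w ht, w.commutes]
    show (φ τ).snd = 1
    rw [← aeval_X (R := k) τ, hφ, aeval_X]
    simp [x]

omit [Algebra D B] [IsScalarTower k D B] [Module.Flat D B] in
theorem exists_pow_mul_of_mapBaseChange_eq_zero (s : B) (z : (B ⧸ Ideal.span {s}) ⊗[B] Ω[B⁄k])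
    (hz : KaehlerDifferential.mapBaseChange k B (B ⧸ Ideal.span {s}) z = 0) :
    ∃ g : B, z = 1 ⊗ₜ KaehlerDifferential.D k B (s * g) := by
  obtain ⟨y, rfl⟩ := (KaehlerDifferential.exact_kerCotangentToTensor_mapBaseChange k B (B ⧸ Ideal.span {s})
    Ideal.Quotient.mk_surjective z).1 hz
  obtain ⟨⟨x, hx⟩, rfl⟩ := Ideal.toCotangent_surjective _ y
  obtain ⟨g, hg⟩ := Ideal.mem_span_singleton.1 (Ideal.Quotient.eq_zero_iff_mem.1 (RingHom.mem_ker.1 hx))
  exact ⟨g, by rw [KaehlerDifferential.kerCotangentToTensor_toCotangent]; exact congrArg (fun u => (1 : B ⧸ Ideal.span {s}) ⊗ₜ[B] KaehlerDifferential.D k B u) hg⟩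

end Groth.Agent.TruncDeform
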